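import Mathlib
import Cfsg.Agent.S0721
import Cfsg.Agent.H996.AllSplit_m3
import Cfsg.Agent.S0205
import Cfsg.Agent.S0254
import Cfsg.Agent.Mrg.Omega.ML.InOf
import Cfsg.Agent.StandardComponent.AltAut
import Cfsg.Agent.Mrg.Omega.TwoF.RowTh_m3
import Cfsg.Agent.H149.Sp.Quot
import Cfsg.Agent.FastGrp
import Cfsg.Agent.Prune
set_option linter.all false
prune_inst 0x7f00000000000000000000000000000000000000000000000000000000000000000000000000000000000000000000000000000000000000000000000000000000000000000000000000000000000000003fffffffffffffffffffffffffffbeffbdffffffff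
open scoped Cfsg.Agent.FastGrp

-- part: H498/OutTwo
section
/-!
# Groups with `|Out| ≤ 2` have no coset of `Inn` inside a class of `Aut`
-/

set_option autoImplicit false

namespace Cfsg.Agent.H498.OutTwo

open Subgroup

theorem conj_injective {S : Type*} [Group S] (hc : center S = ⊥) :
    Function.Injective (MulAut.conj : S →* MulAut S) := by
  rw [injective_iff_map_eq_one]
  intro a ha
  have h1 : a ∈ center S := by
    rw [mem_center_iff]
    intro g
    have h2 : MulAut.conj a g = g := by rw [ha]; rfl
    rw [MulAut.conj_apply, mul_inv_eq_iff_eq_mul] at h2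
    exact h2.symm
  rwa [hc, mem_bot] at h1

/-- A finite group of order divisible by four has no element with centraliser of order at most two. -/
theorem card_centralizer_gt {A : Type*} [Group A] [Finite A] (h4 : 4 ∣ Nat.card A) {a : A} (ha : a ≠ 1) :
    2 < Nat.card (centralizer ({a} : Set A)) := by
  by_contra hle
  push Not at hle
  have haC : a ∈ centralizer ({a} : Set A) := mem_centralizer_singleton_iff.2 rfl
  have h1 : orderOf a ≤ 2 := by
    have h2 : orderOf a ∣ Nat.card (centralizer ({a} : Set A)) := by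
      have := orderOf_dvd_natCard (⟨a, haC⟩ : centralizer ({a} : Set A))
      rwa [Subgroup.orderOf_mk] at this
    exact (Nat.le_of_dvd Nat.card_pos h2).trans hle
  have h2 : orderOf a = 2 := by
    have h3 : orderOf a ≠ 1 := fun h => ha (orderOf_eq_one_iff.1 h)
    have h4 : 0 < orderOf a := orderOf_pos a
    omega
  have h2F : Fact (Nat.Prime 2) := ⟨Nat.prime_two⟩
  -- elements of the centraliser
  have h3 : ∀ z ∈ centralizer ({a} : Set A), z = 1 ∨ z = a := by
    intro z hz
    by_contra hcon
    push Not at hcon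
    have h4 : 3 ≤ Nat.card (centralizer ({a} : Set A)) := by
      have h5 : ({1, a, z} : Set A).ncard = 3 := Set.ncard_eq_three.2 ⟨1, a, z, ha.symm, hcon.1.symm, hcon.2.symm, rfl⟩
      have h6 : ({1, a, z} : Set A) ⊆ (centralizer ({a} : Set A) : Set A) := by
        intro y hy
        rcases hy with rfl | rfl | rfl
        · exact one_mem _
        · exact haC
        · exact hz
      have h7 := Set.ncard_le_ncard h6 (Set.toFinite _)
      rw [h5] at h7
      exact h7
    omega
  obtain ⟨P, hP⟩ := (IsPGroup.of_card (p := 2) (n := 1) (by rw [Nat.card_zpowers, h2, pow_one]) :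
    IsPGroup 2 (zpowers a)).exists_le_sylow
  have haP : a ∈ (P : Subgroup A) := hP (mem_zpowers a)
  have hPc : 4 ∣ Nat.card P := by
    have h5 := P.pow_dvd_card_of_pow_dvd_card (n := 2) (by norm_num; exact h4)
    norm_num at h5
    exact h5
  have : Nontrivial P := ⟨⟨a, haP⟩, 1, fun h => ha (congrArg Subtype.val h)⟩
  have hZ := P.isPGroup'.center_nontrivial
  obtain ⟨z, hz⟩ := exists_ne (1 : center P)
  have h5 : (z : P).1 ∈ centralizer ({a} : Set A) := by
    rw [mem_centralizer_singleton_iff]
    have h6 := mem_center_iff.1 z.2 ⟨a, haP⟩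
    have h7 := congrArg Subtype.val h6
    exact h7.symm
  rcases h3 _ h5 with h6 | h6
  · exact hz (Subtype.ext (Subtype.ext h6))
  · have h7 : (P : Subgroup A) ≤ centralizer ({a} : Set A) := by
      intro y hy
      rw [mem_centralizer_singleton_iff]
      have h8 := mem_center_iff.1 z.2 ⟨y, hy⟩
      have h9 := congrArg Subtype.val h8
      rw [← h6]
      exact h9
    have h8 := Subgroup.card_le_of_le h7
    have h9 := Nat.le_of_dvd Nat.card_pos hPc
    omega

/-- **`|Out(S)| ≤ 2`: no coset of `Inn(S)` inside a class of `Aut(S)`.** -/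
theorem free_of_index_le_two {S : Type*} [Group S] [Finite S] [IsSimpleGroup S] (hna : ¬ IsMulCommutative S)
    (h2 : 2 ∣ Nat.card S) (hi : (MulAut.conj : S →* MulAut S).range.index ≤ 2) :
    ¬ ∃ α : MulAut S, ∀ s : S, IsConj α (α * MulAut.conj s) := by
  rintro ⟨α, hα⟩
  have hc : center S = ⊥ := by
    rcases (inferInstance : (center S).Normal).eq_bot_or_eq_top with h | h
    · exact h
    · exfalso
      apply hna
      exact ⟨⟨fun a b => (mem_center_iff.1 (show b ∈ center S by rw [h]; trivial) a)⟩⟩
  have hinj := conj_injective hc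
  by_cases hin : α ∈ (MulAut.conj : S →* MulAut S).range
  · obtain ⟨t, rfl⟩ := hin
    have h3 := hα t⁻¹
    rw [← map_mul, mul_inv_cancel, map_one, isConj_one_left] at h3
    have h4 : t = 1 := hinj (by rw [h3, map_one])
    obtain ⟨s, hs⟩ := exists_ne (1 : S)
    have h5 := hα s
    rw [h3, one_mul, isConj_one_right] at h5
    exact hs (hinj (by rw [h5, map_one]))
  · have h0 : (MulAut.conj : S →* MulAut S).range.index ≠ 0 := Subgroup.index_ne_zero_of_finite
    have h1 : (MulAut.conj : S →* MulAut S).range.index ≠ 1 := by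
      intro h
      rw [Subgroup.index_eq_one] at h
      exact hin (by rw [h]; trivial)
    have hidx : (MulAut.conj : S →* MulAut S).range.index = 2 := by omega
    have hcI : Nat.card (MulAut.conj : S →* MulAut S).range = Nat.card S :=
      Nat.card_congr (MonoidHom.ofInjective hinj).symm.toEquiv
    have hcA : Nat.card S * 2 = Nat.card (MulAut S) := by
      rw [← hcI, ← hidx]
      exact Subgroup.card_mul_index _
    have hα1 : α ≠ 1 := by
      rintro rfl
      exact hin (one_mem _)
    have h4 : 4 ∣ Nat.card (MulAut S) := by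
      rw [← hcA]
      exact mul_dvd_mul h2 (dvd_refl 2)
    have h5 := card_centralizer_gt h4 hα1
    -- the class of `α` is large
    have h6 : Nat.card S ≤ (centralizer ({α} : Set (MulAut S))).index := by
      choose c hc' using fun s : S => isConj_iff.1 (hα s)
      refine Nat.card_le_card_of_injective (fun s : S => (QuotientGroup.mk (c s) :
        MulAut S ⧸ centralizer ({α} : Set (MulAut S)))) ?_
      intro s t hst
      have h7 : (c s)⁻¹ * c t ∈ centralizer ({α} : Set (MulAut S)) := QuotientGroup.eq.1 hst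
      rw [mem_centralizer_singleton_iff] at h7
      have h8 : c s * α * (c s)⁻¹ = c t * α * (c t)⁻¹ := by
        calc c s * α * (c s)⁻¹ = c s * (α * ((c s)⁻¹ * c t)) * (c t)⁻¹ := by group
          _ = c s * ((c s)⁻¹ * c t * α) * (c t)⁻¹ := by rw [h7]
          _ = _ := by group
      rw [hc', hc'] at h8
      exact hinj (mul_left_cancel h8)
    have h7 := Subgroup.card_mul_index (centralizer ({α} : Set (MulAut S)))
    have h8 : 0 < Nat.card S := Nat.card_pos
    nlinarith

end Cfsg.Agent.H498.OutTwo
end

-- part: H498/CosetSolv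
section
/-!
# Cosets of a normal subgroup contained in a conjugacy class: the normal subgroup is solvable

`solvable_of_coset` : if no finite simple non-abelian group `S` has an automorphism `α` with all the elements of
`α Inn(S)` conjugate to `α` in `Aut(S)` (`Free`), then `x N ⊆ x^G` implies that `N` is solvable.
-/

set_option autoImplicit false

namespace Cfsg.Agent.H498.CosetSolv

open Cfsg.Agent.H498.CosetFix Cfsg.Agent.H498.CosetRed

universe u

/-- no coset of `Inn(S)` in `Aut(S)` is contained in a conjugacy class -/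
def Free (S : Type u) [Group S] : Prop := ¬ ∃ α : MulAut S, ∀ s : S, IsConj α (α * MulAut.conj s)

theorem exists_fac {G : Type*} [Group G] [Finite G] (V : Subgroup G) [V.Normal] (hV : V ≠ ⊥)
    (hmin : ∀ M : Subgroup G, M.Normal → M ≤ V → M = ⊥ ∨ M = V) (hns : ¬ Group.IsSolvable V) :
    ∃ L : Subgroup G, Fac V L ∧ ¬ IsMulCommutative L := by
  classical
  obtain ⟨T, hT, m, hs, hm, ⟨e⟩⟩ := Cfsg.Agent.S0721.result V hV hmin
  let i0 : Fin m := ⟨0, hm⟩
  let f : T →* G := V.subtype.comp (e.symm.toMonoidHom.comp (MonoidHom.mulSingle (fun _ : Fin m => T) i0))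
  have hf : Function.Injective f := by
    intro a b hab
    have h1 : e.symm (Pi.mulSingle i0 a) = e.symm (Pi.mulSingle i0 b) := Subtype.ext hab
    exact Pi.mulSingle_injective i0 (e.symm.injective h1)
  have hmem : ∀ y : G, y ∈ f.range ↔ ∃ hy : y ∈ V, ∀ j, j ≠ i0 → e ⟨y, hy⟩ j = 1 := by
    intro y
    constructor
    · rintro ⟨t, rfl⟩
      refine ⟨(e.symm (Pi.mulSingle i0 t)).2, fun j hj => ?_⟩
      have : e ⟨f t, (e.symm (Pi.mulSingle i0 t)).2⟩ = Pi.mulSingle i0 t := by
        show e (e.symm (Pi.mulSingle i0 t)) = _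
        rw [MulEquiv.apply_symm_apply]
      rw [this, Pi.mulSingle_eq_of_ne hj]
    · rintro ⟨hy, h⟩
      refine ⟨e ⟨y, hy⟩ i0, ?_⟩
      have h1 : Pi.mulSingle i0 (e ⟨y, hy⟩ i0) = e ⟨y, hy⟩ := by
        ext j
        by_cases hj : j = i0
        · rw [hj, Pi.mulSingle_eq_same]
        · rw [Pi.mulSingle_eq_of_ne hj, h j hj]
      show ((e.symm (Pi.mulSingle i0 (e ⟨y, hy⟩ i0)) : V) : G) = y
      rw [h1, MulEquiv.symm_apply_apply]
  have eL : T ≃* f.range := MonoidHom.ofInjective hf
  refine ⟨f.range, ⟨?_, ?_, ?_⟩, ?_⟩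
  · rintro _ ⟨t, rfl⟩
    exact (e.symm (Pi.mulSingle i0 t)).2
  · intro v hv k hk
    rw [hmem] at hk ⊢
    obtain ⟨hk1, hk2⟩ := hk
    have hv' : v * k * v⁻¹ ∈ V := mul_mem (mul_mem hv hk1) (inv_mem hv)
    refine ⟨hv', fun j hj => ?_⟩
    have h1 : (⟨v * k * v⁻¹, hv'⟩ : V) = ⟨v, hv⟩ * ⟨k, hk1⟩ * ⟨v, hv⟩⁻¹ := rfl
    rw [h1, map_mul, map_mul, map_inv, Pi.mul_apply, Pi.mul_apply, Pi.inv_apply, hk2 j hj, mul_one, mul_inv_cancel]
  · exact eL.symm.isSimpleGroup
  · intro hcom
    apply hns
    have h1 : ∀ a b : T, a * b = b * a := by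
      intro a b
      apply eL.injective
      rw [map_mul, map_mul]
      exact hcom.is_comm.comm _ _
    have h2 : ∀ a b : V, a * b = b * a := by
      intro a b
      apply e.injective
      rw [map_mul, map_mul]
      ext j
      rw [Pi.mul_apply, Pi.mul_apply, h1]
    exact Group.isSolvable_of_comm h2

theorem solvable_aux (H : ∀ (S : Type u) [Group S] [Finite S] [IsSimpleGroup S], ¬ IsMulCommutative S → Free S)
    (n : ℕ) : ∀ (G : Type u) [Group G] [Finite G] (N : Subgroup G) [N.Normal] (x : G),
      Nat.card N ≤ n → (∀ v ∈ N, IsConj x (x * v)) → Group.IsSolvable N := by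
  induction n with
  | zero =>
    intro G _ _ N _ x hn _
    exact absurd hn (by have : 0 < Nat.card N := Nat.card_pos; omega)
  | succ n ih =>
    intro G _ _ N _ x hn hx
    by_cases hN : N = ⊥
    · subst hN
      exact Group.isSolvable_of_comm fun a b => Subsingleton.elim _ _
    -- a minimal normal subgroup below `N`
    obtain ⟨V, ⟨hVn, hVN, hV⟩, hVmin⟩ : ∃ V : Subgroup G, (V.Normal ∧ V ≤ N ∧ V ≠ ⊥) ∧
        ∀ M : Subgroup G, (M.Normal ∧ M ≤ N ∧ M ≠ ⊥) → M ≤ V → V ≤ M := by
      have hfin : ({V : Subgroup G | V.Normal ∧ V ≤ N ∧ V ≠ ⊥}).Finite := Set.toFinite _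
      obtain ⟨V, hV⟩ := hfin.exists_minimal ⟨N, inferInstance, le_rfl, hN⟩
      exact ⟨V, hV.1, fun M hM hle => hV.2 hM hle⟩
    have hmin : ∀ M : Subgroup G, M.Normal → M ≤ V → M = ⊥ ∨ M = V := by
      intro M hM hle
      by_cases h : M = ⊥
      · exact Or.inl h
      · exact Or.inr (le_antisymm hle (hVmin M ⟨hM, hle.trans hVN, h⟩ hle))
    have hVs : Group.IsSolvable V := by
      by_contra hns
      obtain ⟨L, hL, hLc⟩ := exists_fac V hV hmin hns
      have := hL.simple
      exact H L hLc (exists_aut (fun v hv => hx v (hVN hv)) hL)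
    -- the quotient
    have hcard : Nat.card (N.map (QuotientGroup.mk' V)) ≤ n := by
      have h1 : Nat.card (N.map (QuotientGroup.mk' V)) * Nat.card V = Nat.card N := by
        have h2 := Subgroup.card_mul_index (V.subgroupOf N)
        rw [Nat.card_congr (Subgroup.subgroupOfEquivOfLe hVN).toEquiv] at h2
        have h3 : (V.subgroupOf N).index = Nat.card (N.map (QuotientGroup.mk' V)) := by
          have h4 : V.subgroupOf N = ((QuotientGroup.mk' V).subgroupMap N).ker := by
            ext y
            rw [MonoidHom.mem_ker, Subgroup.mem_subgroupOf]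
            rw [← Subtype.coe_inj]
            show (y : G) ∈ V ↔ (QuotientGroup.mk (y : G) : G ⧸ V) = 1
            rw [QuotientGroup.eq_one_iff]
          rw [h4, Subgroup.index_ker, MonoidHom.range_eq_top.2 (MonoidHom.subgroupMap_surjective _ _),
            Subgroup.card_top]
        rw [h3] at h2
        rw [mul_comm]
        exact h2
      have h5 : 2 ≤ Nat.card V := by
        have h6 : Nontrivial V := (Subgroup.nontrivial_iff_ne_bot V).2 hV
        exact Finite.one_lt_card
      have h7 : 0 < Nat.card (N.map (QuotientGroup.mk' V)) := Nat.card_pos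
      nlinarith
    have hnor : (N.map (QuotientGroup.mk' V)).Normal :=
      Subgroup.Normal.map inferInstance _ (QuotientGroup.mk'_surjective V)
    have hq := ih (G ⧸ V) (N.map (QuotientGroup.mk' V)) (QuotientGroup.mk' V x) hcard (isConj_quotient hx V)
    -- conclusion
    have h8 : Group.IsSolvable (V.subgroupOf N) :=
      Group.isSolvable_of_isSolvable_injective (f := (Subgroup.subgroupOfEquivOfLe hVN).toMonoidHom)
        (Subgroup.subgroupOfEquivOfLe hVN).injective
    exact Group.isSolvable_of_ker_le_range (V.subgroupOf N).subtype ((QuotientGroup.mk' V).subgroupMap N) (by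
      intro y hy
      rw [MonoidHom.mem_ker, ← Subtype.coe_inj] at hy
      have h9 : (QuotientGroup.mk (y : G) : G ⧸ V) = 1 := hy
      rw [QuotientGroup.eq_one_iff] at h9
      exact ⟨⟨y, h9⟩, rfl⟩)

/-- **If `x N ⊆ x^G` then `N` is solvable**, provided that all the simple groups are `Free`. -/
theorem solvable_of_coset
    (H : ∀ (S : Type u) [Group S] [Finite S] [IsSimpleGroup S], ¬ IsMulCommutative S → Free S)
    {G : Type u} [Group G] [Finite G] (N : Subgroup G) [N.Normal] (x : G) (hx : ∀ v ∈ N, IsConj x (x * v)) :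
    Group.IsSolvable N :=
  solvable_aux H _ G N x le_rfl hx

end Cfsg.Agent.H498.CosetSolv
end

-- part: H498/KnownFree
section
/-!
# No coset of `Inn(S)` lies in a conjugacy class of `Aut(S)`, for the known simple groups `S`
-/

set_option autoImplicit false

namespace Cfsg.Agent.H498.KnownFree

open Cfsg Subgroup Cfsg.Agent.H498.CosetSolv

/-- A non-abelian finite simple group has even order. -/
theorem two_dvd_card {S : Type*} [Group S] [Finite S] [IsSimpleGroup S] (hna : ¬ IsMulCommutative S) :
    2 ∣ Nat.card S := by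
  by_contra h
  have h1 : Odd (Nat.card S) := by
    rw [← Nat.not_even_iff_odd, even_iff_two_dvd]
    exact h
  have h2 : Group.IsSolvable S := S0205.result h1
  exact hna ⟨⟨IsSimpleGroup.comm_iff_isSolvable.2 h2⟩⟩

theorem center_eq_bot {S : Type*} [Group S] [IsSimpleGroup S] (hna : ¬ IsMulCommutative S) : center S = ⊥ := by
  rcases (inferInstance : (center S).Normal).eq_bot_or_eq_top with h | h
  · exact h
  · exfalso
    apply hna
    exact ⟨⟨fun a b => (mem_center_iff.1 (show b ∈ center S by rw [h]; trivial) a)⟩⟩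

/-- an automorphism centralising the inner ones is trivial -/
theorem centralizer_inn {S : Type*} [Group S] (hc : center S = ⊥) :
    centralizer ((MulAut.conj : S →* MulAut S).range : Set (MulAut S)) = ⊥ := by
  rw [eq_bot_iff]
  intro f hf
  rw [mem_bot]
  ext s
  have h1 := mem_centralizer_iff.1 hf (MulAut.conj s) ⟨s, rfl⟩
  have h2 : MulAut.conj (f s) = MulAut.conj s := by
    have h3 : f * MulAut.conj s * f⁻¹ = MulAut.conj (f s) := by
      ext t
      show f (s * f⁻¹ t * s⁻¹) = f s * t * (f s)⁻¹
      rw [map_mul, map_mul, map_inv]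
      have : f (f⁻¹ t) = t := f.apply_symm_apply t
      rw [this]
    rw [← h3, ← h1, mul_inv_cancel_right]
  exact OutTwo.conj_injective hc h2

/-- the alternating groups of degree at least seven -/
theorem index_alt {n : ℕ} (hn : 7 ≤ n) {S : Type*} [Group S] (e : S ≃* alternatingGroup (Fin n)) :
    (MulAut.conj : S →* MulAut S).range.index ≤ 2 := by
  classical
  rw [SporOut.index_congr e]
  obtain ⟨ψ, hψ⟩ := StandardComponent.AltAut.exists_autHom n hn
  have hinj : Function.Injective ψ := by
    intro a b hab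
    ext x : 1
    apply Subtype.ext
    rw [hψ, hψ, hab]
  have h1 : Nat.card (MulAut (alternatingGroup (Fin n))) ≤ Nat.card (Equiv.Perm (Fin n)) :=
    Nat.card_le_card_of_injective ψ hinj
  have : Nontrivial (Fin n) := Fin.nontrivial_iff_two_le.2 (by omega)
  have h2 : 2 * Nat.card (alternatingGroup (Fin n)) = Nat.card (Equiv.Perm (Fin n)) := by
    rw [Nat.card_eq_fintype_card, Nat.card_eq_fintype_card]
    exact two_mul_card_alternatingGroup
  have hc : center (alternatingGroup (Fin n)) = ⊥ := alternatingGroup.center_eq_bot (by simp; omega)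
  have h3 : Nat.card (MulAut.conj : alternatingGroup (Fin n) →* MulAut (alternatingGroup (Fin n))).range =
      Nat.card (alternatingGroup (Fin n)) :=
    Nat.card_congr (MonoidHom.ofInjective (OutTwo.conj_injective hc)).symm.toEquiv
  have h4 := Subgroup.card_mul_index (MulAut.conj : alternatingGroup (Fin n) →* MulAut (alternatingGroup (Fin n))).range
  rw [h3] at h4
  rw [← h4, ← h2, mul_comm 2] at h1
  exact Nat.le_of_mul_le_mul_left h1 Nat.card_pos

/-- **The known simple groups are `Free`.** -/
theorem free_of_known {S : Type*} [Group S] [Finite S] [IsSimpleGroup S] (hna : ¬ IsMulCommutative S)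
    (h : IsKnownSimple' S) : Free S := by
  have h2 := two_dvd_card hna
  have hc := center_eq_bot hna
  rcases Omega.ML.Known.cases h with h | h | ⟨⟨p, hp, -, h⟩, -⟩ | h | ⟨n, hn, -, ⟨e⟩⟩ | h | h
  · exfalso
    have h3 : Nat.Prime (Nat.card S) := h
    have : Fact (Nat.card S).Prime := ⟨h3⟩
    have hcyc : IsCyclic S := isCyclic_of_prime_card (α := S) rfl
    exact hna IsCyclic.isMulCommutative
  · have : Fact (Nat.Prime 2) := ⟨Nat.prime_two⟩
    exact SplitOpp.free_of_opp (LieFree.oppTrans_of_lieChar Nat.prime_two h)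
  · have : Fact p.Prime := ⟨hp⟩
    exact SplitOpp.free_of_opp (LieFree.oppTrans_of_lieChar hp h)
  · obtain ⟨e⟩ := h
    obtain ⟨f⟩ := S0254.psl_k9
    have h3 : IsLieTypeChar 3 S := by
      refine Or.inl ⟨S0254.K9, inferInstance, inferInstance, ?_, 2, le_rfl, fun _ => ?_, ⟨e.trans f.symm⟩⟩
      · have : Fact (Nat.Prime 3) := ⟨Nat.prime_three⟩
        refine charP_of_card_eq_prime_pow (f := 2) ?_
        rw [S0254.card_k9]
        norm_num
      · rw [S0254.card_k9]
        norm_num
    have : Fact (Nat.Prime 3) := ⟨Nat.prime_three⟩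
    exact SplitOpp.free_of_opp (LieFree.oppTrans_of_lieChar Nat.prime_three h3)
  · exact OutTwo.free_of_index_le_two hna h2 (index_alt hn e)
  · refine OutTwo.free_of_index_le_two hna h2 ?_
    have hn : ((MulAut.conj : S →* MulAut S).range).Normal := by
      constructor
      rintro _ ⟨s, rfl⟩ f
      refine ⟨f s, ?_⟩
      ext t
      show f s * t * (f s)⁻¹ = f (s * f⁻¹ t * s⁻¹)
      rw [map_mul, map_mul, map_inv]
      have : f (f⁻¹ t) = t := f.apply_symm_apply t
      rw [this]
    exact TitsK.index_le h _ ⟨(MonoidHom.ofInjective (OutTwo.conj_injective hc)).symm⟩ (centralizer_inn hc)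
  · exact OutTwo.free_of_index_le_two hna h2 (SporOut.index_le_two h)

end Cfsg.Agent.H498.KnownFree
end
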