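import Mathlib
import Cfsg.Agent.Lib.PGroupFixedVector
set_option linter.all false

/-!
# Derived length of linear nilpotent groups and linear `p`-groups

* `semisimple`: a finite nilpotent group acting on a space of dimension at most `n` over an
  algebraically closed field of characteristic prime to the group order:
  the term `⌊log₂ n⌋ + 1` of the derived series acts trivially.
* `unipotent`: the same for a finite `p`-group in characteristic `p`, any field.
* `derivedSeries_pgroup_GL`: a finite `p`-subgroup of `GL_n(F)`, `F` any field, has derived length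
  at most `⌊log₂ n⌋ + 1`.
-/

set_option autoImplicit false

namespace Cfsg.Agent.H498.LinDerived

open Module
open scoped commutatorElement

/-- If `P' ≤ H` then `P^(k+1) ≤ H^(k)`. -/
theorem derivedSeries_succ_le_map {P : Type*} [Group P] (H : Subgroup P) (h : commutator P ≤ H)
    (k : ℕ) : derivedSeries P (k + 1) ≤ (derivedSeries H k).map H.subtype := by
  induction k with
  | zero =>
    rw [derivedSeries_succ, derivedSeries_zero, derivedSeries_zero]
    intro x hx
    exact ⟨⟨x, h hx⟩, trivial, rfl⟩
  | succ k ih =>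
    rw [derivedSeries_succ, derivedSeries_succ H, Subgroup.map_commutator]
    exact Subgroup.commutator_mono ih ih

section
variable {K P V : Type*} [Field K] [Group P] [AddCommGroup V] [Module K V]
    (ρ : Representation K P V)

/-- Elements acting as scalars. -/
def scalars : Subgroup P where
  carrier := {g | ∃ c : K, ∀ v, ρ g v = c • v}
  one_mem' := ⟨1, fun v => by simp⟩
  mul_mem' := by
    rintro a b ⟨c, hc⟩ ⟨d, hd⟩
    exact ⟨c * d, fun v => by rw [map_mul, Module.End.mul_apply, hd, map_smul, hc, smul_smul, mul_comm]⟩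
  inv_mem' := by
    rintro a ⟨c, hc⟩
    by_cases h : c = 0
    · refine ⟨0, fun v => ?_⟩
      have h1 : ∀ v : V, v = 0 := by
        intro v
        have : ρ a (ρ a⁻¹ v) = v := ρ.self_inv_apply a v
        rw [hc, h, zero_smul] at this
        exact this.symm
      rw [h1 v, map_zero, smul_zero]
    · refine ⟨c⁻¹, fun v => ?_⟩
      have h2 : ρ a (ρ a⁻¹ v) = v := ρ.self_inv_apply a v
      rw [hc] at h2
      have h3 : ρ a⁻¹ v = c⁻¹ • (c • ρ a⁻¹ v) := by
        rw [smul_smul, inv_mul_cancel₀ h, one_smul]
      rw [h3, h2]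

theorem mem_scalars {g : P} : g ∈ scalars ρ ↔ ∃ c : K, ∀ v, ρ g v = c • v := Iff.rfl

instance scalars_normal : (scalars ρ).Normal where
  conj_mem := by
    rintro a ⟨c, hc⟩ g
    refine ⟨c, fun v => ?_⟩
    rw [map_mul, map_mul, Module.End.mul_apply, Module.End.mul_apply, hc, map_smul,
      ρ.self_inv_apply]

/-- The fixed space of a normal subgroup is a subrepresentation. -/
def fixedOf (D : Subgroup P) [D.Normal] : Subrepresentation ρ where
  toSubmodule :=
    { carrier := {v | ∀ d ∈ D, ρ d v = v}
      add_mem' := by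
        intro a b ha hb d hd
        rw [map_add, ha d hd, hb d hd]
      zero_mem' := fun d _ => map_zero _
      smul_mem' := by
        intro c v hv d hd
        rw [map_smul, hv d hd] }
  apply_mem_toSubmodule := by
    intro g v hv d hd
    have h1 : g⁻¹ * d * g ∈ D := by
      simpa using Subgroup.Normal.conj_mem inferInstance d hd g⁻¹
    have h2 := hv _ h1
    have h3 : ρ (g * (g⁻¹ * d * g)) v = ρ g v := by
      rw [map_mul, Module.End.mul_apply, h2]
    have h4 : g * (g⁻¹ * d * g) = d * g := by group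
    rw [h4, map_mul, Module.End.mul_apply] at h3
    exact h3

theorem mem_fixedOf (D : Subgroup P) [D.Normal] (v : V) :
    v ∈ (fixedOf ρ D).toSubmodule ↔ ∀ d ∈ D, ρ d v = v := Iff.rfl

/-- The set of elements `x` with `ρ x` commuting with `ρ a`. -/
def comm (a : P) : Subgroup P where
  carrier := {x | ∀ v, ρ x (ρ a v) = ρ a (ρ x v)}
  one_mem' := fun v => by simp
  mul_mem' := by
    intro x y hx hy v
    rw [map_mul, Module.End.mul_apply, Module.End.mul_apply, hy, hx]
  inv_mem' := by
    intro x hx v
    have h1 : ρ x⁻¹ (ρ x (ρ a (ρ x⁻¹ v))) = ρ a (ρ x⁻¹ v) := ρ.inv_self_apply x _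
    rw [hx, ρ.self_inv_apply] at h1
    exact h1

theorem mem_comm (a x : P) : x ∈ comm ρ a ↔ ∀ v, ρ x (ρ a v) = ρ a (ρ x v) := Iff.rfl

end

theorem log_aux {m n : ℕ} (hm : 1 ≤ m) (h : 2 * m ≤ n) : Nat.log 2 m + 1 ≤ Nat.log 2 n := by
  have h1 : Nat.log 2 (m * 2) = Nat.log 2 m + 1 := Nat.log_mul_base (by norm_num) (by omega)
  rw [← h1]
  exact Nat.log_mono_right (by omega)

/-- **Semisimple case.** -/
theorem semisimple {K : Type*} [Field K] [IsAlgClosed K] (n : ℕ) :
    ∀ {P : Type*} [Group P] [Finite P] [Group.IsNilpotent P]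
      {V : Type*} [AddCommGroup V] [Module K V] [FiniteDimensional K V]
      (_hc : (Nat.card P : K) ≠ 0) (ρ : Representation K P V) (_hn : finrank K V = n)
      (g : P) (_hg : g ∈ derivedSeries P (Nat.log 2 n + 1)) (v : V), ρ g v = v := by
  induction n using Nat.strong_induction_on with
  | _ n ih =>
  intro P _ _ _ V _ _ _ hc ρ hn g hg v
  by_cases hV : Subsingleton V
  · exact Subsingleton.elim _ _
  rw [not_subsingleton_iff_nontrivial] at hV
  have hn0 : 0 < n := by rw [← hn]; exact finrank_pos
  by_cases hirr : ∃ σ : Subrepresentation ρ, σ ≠ ⊥ ∧ σ ≠ ⊤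
  · -- reducible: use Maschke
    obtain ⟨σ, hσ0, hσ1⟩ := hirr
    have : NeZero (Nat.card P : K) := ⟨hc⟩
    have hss : ρ.IsSemisimpleRepresentation := inferInstance
    obtain ⟨τ, hτ⟩ := hss.exists_isCompl σ
    have hcompl : IsCompl σ.toSubmodule τ.toSubmodule := by
      constructor
      · rw [disjoint_iff]
        have := hτ.1.eq_bot
        have h2 := congrArg Subrepresentation.toSubmodule this
        exact h2
      · rw [codisjoint_iff]
        have := hτ.2.eq_top
        have h2 := congrArg Subrepresentation.toSubmodule this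
        exact h2
    have hdim := Submodule.finrank_add_eq_of_isCompl hcompl
    have hσpos : 0 < finrank K σ.toSubmodule := by
      rw [Nat.pos_iff_ne_zero]
      intro h0
      apply hσ0
      apply Subrepresentation.toSubmodule_injective
      exact Submodule.finrank_eq_zero.mp h0
    have hτpos : 0 < finrank K τ.toSubmodule := by
      rw [Nat.pos_iff_ne_zero]
      intro h0
      apply hσ1
      have h1 : τ.toSubmodule = ⊥ := Submodule.finrank_eq_zero.mp h0
      apply Subrepresentation.toSubmodule_injective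
      have h2 := hcompl.2.eq_top
      rw [h1, sup_bot_eq] at h2
      exact h2
    have key : ∀ α : Subrepresentation ρ, finrank K α.toSubmodule < n → ∀ w ∈ α.toSubmodule,
        ρ g w = w := by
      intro α hα w hw
      have hle : derivedSeries P (Nat.log 2 n + 1) ≤
          derivedSeries P (Nat.log 2 (finrank K α.toSubmodule) + 1) :=
        derivedSeries_antitone P (by
          have := Nat.log_mono_right (b := 2) hα.le
          omega)
      have h3 := ih _ hα hc α.toRepresentation rfl g (hle hg) ⟨w, hw⟩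
      exact congrArg Subtype.val h3
    obtain ⟨a, ha, b, hb, rfl⟩ := Submodule.mem_sup.mp
      (show v ∈ σ.toSubmodule ⊔ τ.toSubmodule by rw [hcompl.2.eq_top]; trivial)
    rw [map_add, key σ (by omega) a ha, key τ (by omega) b hb]
  · push Not at hirr
    -- irreducible
    by_cases hsc : scalars ρ = ⊤
    · -- all scalars: the group acts through an abelian group
      have h1 : derivedSeries P (Nat.log 2 n + 1) ≤ derivedSeries P 1 :=
        derivedSeries_antitone P (by omega)
      have h2 : derivedSeries P 1 ≤ ρ.ker := by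
        rw [derivedSeries_one, commutator_def, Subgroup.commutator_le]
        intro x _ y _
        rw [MonoidHom.mem_ker]
        obtain ⟨c, hc⟩ := (mem_scalars ρ).mp (hsc ▸ Subgroup.mem_top x)
        obtain ⟨d, hd⟩ := (mem_scalars ρ).mp (hsc ▸ Subgroup.mem_top y)
        ext w
        have e1 : ⁅x, y⁆ = (x * y) * (y * x)⁻¹ := by rw [commutatorElement_def]; group
        have e2 : ∀ u : V, ρ (x * y) u = ρ (y * x) u := by
          intro u
          rw [map_mul, map_mul, Module.End.mul_apply, Module.End.mul_apply, hd, hc, hc, hd,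
            smul_smul, smul_smul, mul_comm]
        rw [e1, map_mul, Module.End.mul_apply, e2, ρ.self_inv_apply, Module.End.one_apply]
      have h3 := h2 (h1 hg)
      rw [MonoidHom.mem_ker] at h3
      rw [h3, Module.End.one_apply]
    -- pick a
    have hcenter : ∃ a : P, a ∉ scalars ρ ∧ ∀ x : P, x * a * x⁻¹ * a⁻¹ ∈ scalars ρ := by
      have : Nontrivial (P ⧸ scalars ρ) := QuotientGroup.nontrivial_iff.mpr hsc
      have : Group.IsNilpotent (P ⧸ scalars ρ) := inferInstance
      have hc : Nontrivial (Subgroup.center (P ⧸ scalars ρ)) :=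
        (Subgroup.nontrivial_iff_ne_bot _).mpr (Group.IsNilpotent.center_ne_bot _)
      obtain ⟨⟨z, hz⟩, hz1⟩ := exists_ne (1 : Subgroup.center (P ⧸ scalars ρ))
      obtain ⟨a, rfl⟩ := QuotientGroup.mk_surjective z
      refine ⟨a, ?_, ?_⟩
      · intro ha
        apply hz1
        ext
        exact (QuotientGroup.eq_one_iff a).mpr ha
      · intro x
        rw [← QuotientGroup.eq_one_iff, QuotientGroup.mk_mul, QuotientGroup.mk_mul,
          QuotientGroup.mk_mul, QuotientGroup.mk_inv, QuotientGroup.mk_inv,
          Subgroup.mem_center_iff.mp hz]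
        group
    obtain ⟨a, ha, hax⟩ := hcenter
    have hcx : ∀ x : P, ∃ c : K, c ≠ 0 ∧ ∀ v, ρ x (ρ a v) = c • ρ a (ρ x v) := by
      intro x
      obtain ⟨c, hc⟩ := (mem_scalars ρ).mp (hax x)
      refine ⟨c, ?_, ?_⟩
      · rintro rfl
        obtain ⟨w, hw⟩ := exists_ne (0 : V)
        have h1 := hc w
        rw [zero_smul] at h1
        apply hw
        have := ρ.inv_self_apply (x * a * x⁻¹ * a⁻¹) w
        rw [h1, map_zero] at this
        exact this.symm
      · intro w
        rw [← hc, ← Module.End.mul_apply, ← Module.End.mul_apply, ← Module.End.mul_apply,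
          ← map_mul, ← map_mul, ← map_mul]
        congr 2
        group
    choose c hc0 hcx using hcx
    -- the subgroup H
    have hcommH : commutator P ≤ comm ρ a := by
      rw [commutator_def, Subgroup.commutator_le]
      intro x _ y _
      rw [mem_comm]
      intro w
      -- x y (yx)⁻¹
      have e1 : ⁅x, y⁆ = (x * y) * (y * x)⁻¹ := by rw [commutatorElement_def]; group
      rw [e1]
      have hxy : ∀ u, ρ (x * y) (ρ a u) = (c x * c y) • ρ a (ρ (x * y) u) := by
        intro u
        rw [map_mul, Module.End.mul_apply, Module.End.mul_apply, hcx y, map_smul, hcx x,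
          smul_smul, mul_comm]
      have hyx : ∀ u, ρ (y * x) (ρ a u) = (c x * c y) • ρ a (ρ (y * x) u) := by
        intro u
        rw [map_mul, Module.End.mul_apply, Module.End.mul_apply, hcx x, map_smul, hcx y,
          smul_smul]
      -- ρ (yx)⁻¹ (ρ a u) = (cx cy)⁻¹ ρ a (ρ (yx)⁻¹ u)
      have hinv : ∀ u, ρ (y * x)⁻¹ (ρ a u) = (c x * c y)⁻¹ • ρ a (ρ (y * x)⁻¹ u) := by
        intro u
        have h1 := hyx (ρ (y * x)⁻¹ u)
        rw [ρ.self_inv_apply] at h1
        have h2 : ρ a u = (c x * c y)⁻¹ • ρ (y * x) (ρ a (ρ (y * x)⁻¹ u)) := by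
          rw [h1, smul_smul, inv_mul_cancel₀ (mul_ne_zero (hc0 x) (hc0 y)), one_smul]
        rw [h2, map_smul, ρ.inv_self_apply]
      rw [map_mul, Module.End.mul_apply, Module.End.mul_apply, hinv, map_smul, hxy, smul_smul,
        inv_mul_cancel₀ (mul_ne_zero (hc0 x) (hc0 y)), one_smul]
    have hHn : (comm ρ a).Normal := by
      constructor
      intro h hh x
      have : x * h * x⁻¹ = ⁅x, h⁆ * h := by rw [commutatorElement_def]; group
      rw [this]
      exact mul_mem (hcommH (Subgroup.commutator_mem_commutator (Subgroup.mem_top x)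
        (Subgroup.mem_top h))) hh
    obtain ⟨μ, hμ⟩ := Module.End.exists_eigenvalue (ρ a)
    set W := Module.End.eigenspace (ρ a) μ with hW
    have hWmem : ∀ w, w ∈ W ↔ ρ a w = μ • w := fun w => Module.End.mem_eigenspace_iff
    have hW0 : W ≠ ⊥ := hμ
    have hμ0 : μ ≠ 0 := by
      rintro rfl
      obtain ⟨w, hw, hw0⟩ := (Submodule.ne_bot_iff W).mp hW0
      apply hw0
      have h1 := (hWmem w).mp hw
      rw [zero_smul] at h1
      have h2 := ρ.inv_self_apply a w
      rw [h1, map_zero] at h2
      exact h2.symm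
    -- H invariance
    have hinvH : ∀ h : comm ρ a, W ≤ W.comap ((ρ.comp (comm ρ a).subtype) h) := by
      rintro ⟨h, hh⟩ w hw
      change ρ h w ∈ W
      rw [hWmem] at hw ⊢
      rw [← (mem_comm ρ a h).mp hh w, hw, map_smul]
    -- exists x not in H
    have hHne : comm ρ a ≠ ⊤ := by
      intro htop
      let σ : Subrepresentation ρ :=
        { toSubmodule := W
          apply_mem_toSubmodule := by
            intro x w hw
            have := (mem_comm ρ a x).mp (htop ▸ Subgroup.mem_top x) w
            rw [hWmem] at hw ⊢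
            rw [← this, hw, map_smul] }
      have hσ0 : σ ≠ ⊥ := fun h => hW0 (congrArg Subrepresentation.toSubmodule h)
      have hσ1 := hirr σ hσ0
      have hWtop : W = ⊤ := congrArg Subrepresentation.toSubmodule hσ1
      apply ha
      refine ⟨μ, fun v => ?_⟩
      rw [← hWmem, hWtop]
      trivial
    obtain ⟨x, hx⟩ : ∃ x : P, x ∉ comm ρ a := by
      by_contra hcon
      push Not at hcon
      exact hHne ((Subgroup.eq_top_iff' _).mpr hcon)
    have hcx1 : c x ≠ 1 := by
      intro h1
      apply hx
      intro w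
      rw [hcx x, h1, one_smul]
    -- dimension count
    have hdisj : Disjoint W (W.map (ρ x)) := by
      rw [Submodule.disjoint_def]
      rintro w hw ⟨u, hu, rfl⟩
      rw [hWmem] at hw
      have hu' := (hWmem u).mp hu
      have h1 := hcx x u
      rw [hu', map_smul, hw, smul_smul] at h1
      have h2 : (μ - c x * μ) • ρ x u = 0 := by rw [sub_smul, h1, sub_self]
      rcases smul_eq_zero.mp h2 with h3 | h3
      · exfalso
        have h4 : μ * (1 - c x) = 0 := by rw [← h3]; ring
        rcases mul_eq_zero.mp h4 with h5 | h5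
        · exact hμ0 h5
        · exact hcx1 (sub_eq_zero.mp h5).symm
      · exact h3
    have hinjx : Function.Injective (ρ x) := (ρ.apply_bijective x).1
    have hdim2 : finrank K (W.map (ρ x)) = finrank K W := by
      exact (Submodule.equivMapOfInjective (ρ x) hinjx W).finrank_eq.symm
    have hdim : 2 * finrank K W ≤ n := by
      have h1 := Submodule.finrank_add_finrank_le_of_disjoint hdisj
      rw [hn, hdim2] at h1
      omega
    have hWpos : 1 ≤ finrank K W := by
      rw [Nat.one_le_iff_ne_zero]
      intro h0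
      exact hW0 (Submodule.finrank_eq_zero.mp h0)
    have hcH : (Nat.card (comm ρ a) : K) ≠ 0 := by
      intro h0
      apply hc
      obtain ⟨k, hk⟩ := Subgroup.card_subgroup_dvd_card (comm ρ a)
      rw [hk, Nat.cast_mul, h0, zero_mul]
    -- induction
    have hind := ih (finrank K W) (by omega) hcH
      (Representation.subrepresentation (ρ.comp (comm ρ a).subtype) W hinvH) rfl
    have hDW : ∀ d ∈ derivedSeries P (Nat.log 2 n + 1), ∀ w ∈ W, ρ d w = w := by
      intro d hd w hw
      obtain ⟨⟨h, hhH⟩, hh, rfl⟩ := derivedSeries_succ_le_map (comm ρ a) hcommH _ hd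
      have h1 := derivedSeries_antitone (comm ρ a) (log_aux hWpos hdim) hh
      have h2 := hind ⟨h, hhH⟩ h1 ⟨w, hw⟩
      exact congrArg Subtype.val h2
    have hne : fixedOf ρ (derivedSeries P (Nat.log 2 n + 1)) ≠ ⊥ := by
      intro h0
      have h1 : (fixedOf ρ (derivedSeries P (Nat.log 2 n + 1))).toSubmodule = ⊥ :=
        congrArg Subrepresentation.toSubmodule h0
      apply hW0
      rw [eq_bot_iff, ← h1]
      intro w hw d hd
      exact hDW d hd w hw
    have htop := hirr _ hne
    have h1 : (fixedOf ρ (derivedSeries P (Nat.log 2 n + 1))).toSubmodule = ⊤ :=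
      congrArg Subrepresentation.toSubmodule htop
    have h2 : v ∈ (fixedOf ρ (derivedSeries P (Nat.log 2 n + 1))).toSubmodule := by
      rw [h1]; trivial
    exact h2 g hg

section unip
variable {K P V : Type*} [Field K] [Group P] [AddCommGroup V] [Module K V]
    (ρ : Representation K P V)

/-- The upper fixed-point filtration. -/
def fil : ℕ → Submodule K V
  | 0 => ⊥
  | i + 1 => ⨅ g : P, (fil i).comap (ρ g - 1)

theorem mem_fil_succ (i : ℕ) (v : V) : v ∈ fil ρ (i + 1) ↔ ∀ g, ρ g v - v ∈ fil ρ i := by
  simp [fil, Submodule.mem_iInf]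

theorem fil_le_succ (i : ℕ) : fil ρ i ≤ fil ρ (i + 1) := by
  induction i with
  | zero => exact bot_le
  | succ i ih =>
    intro v hv
    rw [mem_fil_succ] at hv ⊢
    exact fun g => ih (hv g)

theorem fil_mono : Monotone (fil ρ) := monotone_nat_of_le_succ (fil_le_succ ρ)

theorem fil_inv (i : ℕ) (g : P) (v : V) (hv : v ∈ fil ρ i) : ρ g v ∈ fil ρ i := by
  have h1 := (mem_fil_succ ρ i v).mp (fil_le_succ ρ i hv) g
  have h2 : ρ g v = (ρ g v - v) + v := by abel
  rw [h2]
  exact add_mem h1 hv

theorem fil_lt [Finite P] {p : ℕ} [Fact p.Prime] [CharP K p] (hP : IsPGroup p P) (i : ℕ)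
    (h : fil ρ i ≠ ⊤) : fil ρ i < fil ρ (i + 1) := by
  have hinv : ∀ g, fil ρ i ≤ (fil ρ i).comap (ρ g) := fun g v hv => fil_inv ρ i g v hv
  have : Nontrivial (V ⧸ fil ρ i) := Submodule.Quotient.nontrivial_iff.mpr h
  obtain ⟨w, hw0, hw⟩ := Cfsg.Agent.Lib.PGroupFixedVector.exists_ne_zero_fixed_rep hP
    (Representation.quotient ρ (fil ρ i) hinv)
  obtain ⟨v, rfl⟩ := Submodule.Quotient.mk_surjective _ w
  refine lt_of_le_of_ne (fil_le_succ ρ i) ?_
  intro heq
  apply hw0
  rw [Submodule.Quotient.mk_eq_zero, heq, mem_fil_succ]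
  intro g
  have h1 := hw g
  rw [Representation.quotient_apply, Submodule.mapQ_apply, Submodule.Quotient.eq] at h1
  exact h1

theorem fil_finrank [Finite P] [FiniteDimensional K V] {p : ℕ} [Fact p.Prime] [CharP K p]
    (hP : IsPGroup p P) (i : ℕ) : fil ρ i = ⊤ ∨ i ≤ finrank K (fil ρ i) := by
  induction i with
  | zero => exact Or.inr (Nat.zero_le _)
  | succ i ih =>
    by_cases htop : fil ρ i = ⊤
    · left
      rw [eq_top_iff, ← htop]
      exact fil_le_succ ρ i
    · rcases ih with h | h
      · exact absurd h htop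
      · right
        have := Submodule.finrank_lt_finrank_of_lt (fil_lt ρ hP i htop)
        omega

/-- The congruence-type subgroups. -/
def U (j : ℕ) : Subgroup P where
  carrier := {g | ∀ i, ∀ v ∈ fil ρ (i + j), ρ g v - v ∈ fil ρ i}
  one_mem' := by
    intro i v _
    rw [map_one, Module.End.one_apply, sub_self]
    exact zero_mem _
  mul_mem' := by
    intro a b ha hb i v hv
    have h1 : ρ (a * b) v - v = ρ a (ρ b v - v) + (ρ a v - v) := by
      rw [map_mul, Module.End.mul_apply, map_sub]; abel
    rw [h1]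
    exact add_mem (fil_inv ρ i a _ (hb i v hv)) (ha i v hv)
  inv_mem' := by
    intro a ha i v hv
    have h1 : ρ a⁻¹ v - v = -(ρ a⁻¹ (ρ a v - v)) := by
      rw [map_sub, ρ.inv_self_apply]; abel
    rw [h1]
    exact neg_mem (fil_inv ρ i a⁻¹ _ (ha i v hv))

theorem mem_U (j : ℕ) (g : P) : g ∈ U ρ j ↔ ∀ i, ∀ v ∈ fil ρ (i + j), ρ g v - v ∈ fil ρ i :=
  Iff.rfl

theorem commutator_mem_U {i j : ℕ} {a b : P} (ha : a ∈ U ρ i) (hb : b ∈ U ρ j) :
    ⁅a, b⁆ ∈ U ρ (i + j) := by
  rw [mem_U] at ha hb ⊢
  intro k v hv
  have e1 : ⁅a, b⁆ = (a * b) * (b * a)⁻¹ := by rw [commutatorElement_def]; group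
  set w := ρ (b * a)⁻¹ v with hw
  have hwm : w ∈ fil ρ (k + (i + j)) := fil_inv ρ _ _ _ hv
  have hv' : v = ρ (b * a) w := by rw [hw, ρ.self_inv_apply]
  have h1 : ρ ⁅a, b⁆ v - v = (ρ a (ρ b w - w) - (ρ b w - w)) - (ρ b (ρ a w - w) - (ρ a w - w)) := by
    rw [e1, map_mul, Module.End.mul_apply, ← hw]
    nth_rewrite 1 [hv']
    rw [map_mul, map_mul, Module.End.mul_apply, Module.End.mul_apply, map_sub, map_sub]
    abel
  rw [h1]
  refine sub_mem ?_ ?_
  · exact ha k _ (hb (k + i) w (by rwa [add_assoc]))
  · exact hb k _ (ha (k + j) w (by rwa [add_assoc, add_comm j i]))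

theorem derivedSeries_le_U (k : ℕ) : derivedSeries P k ≤ U ρ (2 ^ k) := by
  induction k with
  | zero =>
    intro g _
    rw [pow_zero, mem_U]
    intro i v hv
    exact (mem_fil_succ ρ i v).mp hv g
  | succ k ih =>
    rw [derivedSeries_succ, Subgroup.commutator_le, pow_succ, mul_two]
    intro a ha b hb
    exact commutator_mem_U ρ (ih ha) (ih hb)

/-- **Unipotent case.** -/
theorem unipotent [Finite P] [FiniteDimensional K V] {p : ℕ} [Fact p.Prime] [CharP K p]
    (hP : IsPGroup p P) (k : ℕ) (hk : finrank K V ≤ 2 ^ k) (g : P) (hg : g ∈ derivedSeries P k)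
    (v : V) : ρ g v = v := by
  have h1 := derivedSeries_le_U ρ k hg
  rw [mem_U] at h1
  have h2 : fil ρ (2 ^ k) = ⊤ := by
    rcases fil_finrank ρ hP (finrank K V) with h | h
    · rw [eq_top_iff, ← h]
      exact fil_mono ρ hk
    · have h3 : fil ρ (finrank K V) = ⊤ := by
        apply Submodule.eq_top_of_finrank_eq
        exact le_antisymm (Submodule.finrank_le _) h
      rw [eq_top_iff, ← h3]
      exact fil_mono ρ hk
  have h3 := h1 0 v (by rw [zero_add, h2]; trivial)
  have h4 : ρ g v - v = 0 := (Submodule.mem_bot K).mp h3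
  exact sub_eq_zero.mp h4

end unip

/-- A finite `p`-group acting on a space of dimension `n` over an algebraically closed field: the
term `⌊log₂ n⌋ + 1` of the derived series acts trivially. -/
theorem pgroup_rep {K P V : Type*} [Field K] [IsAlgClosed K] [Group P] [Finite P]
    [AddCommGroup V] [Module K V] [FiniteDimensional K V] {p : ℕ} [Fact p.Prime]
    (hP : IsPGroup p P) (ρ : Representation K P V) (g : P)
    (hg : g ∈ derivedSeries P (Nat.log 2 (finrank K V) + 1)) (v : V) : ρ g v = v := by
  by_cases hch : (p : K) = 0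
  · have hcp : CharP K p := by
      obtain ⟨q, hq⟩ := CharP.exists K
      have h1 : q ∣ p := (CharP.cast_eq_zero_iff K q p).mp hch
      rcases (Nat.dvd_prime Fact.out).mp h1 with h | h
      · exact absurd h (CharP.char_ne_one K q)
      · exact h ▸ hq
    exact unipotent ρ hP _ (Nat.lt_pow_succ_log_self (by norm_num) _).le g hg v
  · have : Group.IsNilpotent P := hP.isNilpotent
    refine semisimple _ ?_ ρ rfl g hg v
    obtain ⟨m, hm⟩ := IsPGroup.iff_card.mp hP
    rw [hm, Nat.cast_pow]
    exact pow_ne_zero _ hch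

/-- **A finite `p`-subgroup of `GL_n(F)` has derived length at most `⌊log₂ n⌋ + 1`.** -/
theorem derivedSeries_pgroup_GL {P : Type*} [Group P] [Finite P] {p : ℕ} [Fact p.Prime]
    (hP : IsPGroup p P) {F : Type*} [Field F] (n : ℕ)
    (ρ : P →* Matrix.GeneralLinearGroup (Fin n) F) (hρ : Function.Injective ρ) :
    derivedSeries P (Nat.log 2 n + 1) = ⊥ := by
  let K := AlgebraicClosure F
  let φ : P →* Matrix (Fin n) (Fin n) K :=
    ((algebraMap F K).mapMatrix : Matrix (Fin n) (Fin n) F →+* Matrix (Fin n) (Fin n) K).toMonoidHom.comp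
      ((Units.coeHom _).comp ρ)
  have hφ : Function.Injective φ := by
    intro a b hab
    apply hρ
    apply Units.ext
    have h1 : ((algebraMap F K).mapMatrix ((ρ a : Matrix.GeneralLinearGroup (Fin n) F) : Matrix (Fin n) (Fin n) F)) =
        ((algebraMap F K).mapMatrix ((ρ b : Matrix.GeneralLinearGroup (Fin n) F) : Matrix (Fin n) (Fin n) F)) := hab
    ext i j
    have h2 := congrFun (congrFun h1 i) j
    rw [RingHom.mapMatrix_apply, RingHom.mapMatrix_apply, Matrix.map_apply, Matrix.map_apply] at h2
    exact (algebraMap F K).injective h2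
  let σ : Representation K P (Fin n → K) :=
    ((Matrix.toLinAlgEquiv' : Matrix (Fin n) (Fin n) K ≃ₐ[K] _) : Matrix (Fin n) (Fin n) K →* _).comp φ
  have hσ : Function.Injective σ := by
    intro a b hab
    exact hφ (Matrix.toLinAlgEquiv'.injective hab)
  rw [eq_bot_iff]
  intro g hg
  rw [Subgroup.mem_bot]
  apply hσ
  rw [map_one]
  ext1 v
  have h1 : finrank K (Fin n → K) = n := Module.finrank_fin_fun K
  have h2 := pgroup_rep hP σ g (by rw [h1]; exact hg)
  ext i
  simp [h2]

end Cfsg.Agent.H498.LinDerived
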